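import Groth.Prelude.Def_GalTw2
import Groth.Agent.S14400

/-!
# Galois conjugation and descent of morphisms
-/

set_option autoImplicit false
set_option backward.isDefEq.respectTransparency false
set_option backward.isDefEq.respectTransparency.types false

universe u

open CategoryTheory CategoryTheory.Limits MonoidalCategory CartesianMonoidalCategory AlgebraicGeometry
open GalTw

noncomputable section

namespace Groth.Misc10.GalTw

variable {k : Type u} [Field k] (K : Type u) [Field K] [Algebra k K]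

/-- The structure map `Spec K ⟶ Spec k`. -/
abbrev base (k : Type u) [Field k] (K : Type u) [Field K] [Algebra k K] :
    Spec (CommRingCat.of K) ⟶ Spec (CommRingCat.of k) :=
  (SGA7.pt (K := k) K).hom

/-- The projection to `X`. -/
abbrev projX (X : Over (Spec (CommRingCat.of k))) : (bcK K X).left ⟶ X.left :=
  pullback.fst X.hom (base k K)

/-- The projection to `Spec K`. -/
abbrev projK (X : Over (Spec (CommRingCat.of k))) : (bcK K X).left ⟶ Spec (CommRingCat.of K) :=
  pullback.snd X.hom (base k K)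

/-- Base change of morphisms. -/
abbrev bcF : Over (Spec (CommRingCat.of k)) ⥤ Over (Spec (CommRingCat.of K)) :=
  Over.pullback (base k K)

variable {K} {X Y Y' : Over (Spec (CommRingCat.of k))}

@[reassoc]
theorem bcF_map_left_projX (f : Y ⟶ X) : ((bcF K).map f).left ≫ projX K X = projX K Y ≫ f.left := by
  simp only [bcF, Over.pullback_map_left]
  exact pullback.lift_fst _ _ _

@[reassoc]
theorem bcF_map_left_projK (f : Y ⟶ X) : ((bcF K).map f).left ≫ projK K X = projK K Y := by
  simp only [bcF, Over.pullback_map_left]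
  exact pullback.lift_snd _ _ _

theorem twHom_map (σ : K ≃ₐ[k] K) (f : Y ⟶ X) : twHom σ ((bcF K).map f) = (bcF K).map f := by
  ext1
  simp only [twHom_left]
  apply pullback.hom_ext
  · show (galMap K σ Y ≫ ((bcF K).map f).left ≫ galMap K σ⁻¹ X) ≫ projX K X = _ ≫ projX K X
    rw [Category.assoc, Category.assoc, galMap_fst, bcF_map_left_projX, galMap_fst_assoc]
  · show (galMap K σ Y ≫ ((bcF K).map f).left ≫ galMap K σ⁻¹ X) ≫ projK K X = _ ≫ projK K X
    rw [Category.assoc, Category.assoc, galMap_snd, bcF_map_left_projK_assoc, bcF_map_left_projK,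
      galMap_snd_assoc, ← specMap_mul, mul_inv_cancel, specMap_one, Category.comp_id]

theorem twIso_mapIso (σ : K ≃ₐ[k] K) (e : Y ≅ X) : twIso σ ((bcF K).mapIso e) = (bcF K).mapIso e :=
  Iso.ext (twHom_map σ e.hom)

section Descent

variable [FiniteDimensional k K] [IsGalois k K]

/-- Invariant morphisms descend. -/
theorem exists_desc (g : bcK K Y ⟶ bcK K X) (hg : ∀ σ : K ≃ₐ[k] K, twHom σ g = g) :
    ∃ f : Y ⟶ X, (bcF K).map f = g := by
  let : Y.left.Over (Spec (CommRingCat.of k)) := ⟨Y.hom⟩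
  let : X.left.Over (Spec (CommRingCat.of k)) := ⟨X.hom⟩
  have hw : g.left ≫ projK K X = projK K Y := Over.w g
  obtain ⟨f, hf, hfg⟩ := (Groth.Agent.S14400.result k K Y.left X.left g.left hw).2 fun σ => by
    have h := congrArg (fun m => m.left ≫ galMap K σ X) (hg σ)
    simp only [twHom_left, Category.assoc, galMap_mul, inv_mul_cancel, galMap_one,
      Category.comp_id] at h
    exact h
  refine ⟨Over.homMk f hf, Over.OverMorphism.ext (pullback.hom_ext ?_ ?_)⟩
  · exact (bcF_map_left_projX _).trans hfg.symm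
  · exact (bcF_map_left_projK _).trans hw.symm

omit [FiniteDimensional k K] [IsGalois k K] in
theorem bcF_map_injective {f f' : Y ⟶ X} (h : (bcF K).map f = (bcF K).map f') : f = f' := by
  have : Flat (base k K) := by
    show Flat (Spec.map (CommRingCat.ofHom (algebraMap k K)))
    rw [HasRingHomProperty.Spec_iff (P := @Flat)]
    exact RingHom.flat_algebraMap_iff.2 inferInstance
  have : Surjective (base k K) := inferInstanceAs (Surjective (Spec.map (CommRingCat.ofHom (algebraMap k K))))
  have : QuasiCompact (base k K) :=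
    inferInstanceAs (QuasiCompact (Spec.map (CommRingCat.ofHom (algebraMap k K))))
  apply Over.OverMorphism.ext
  rw [← cancel_epi (projX K Y), ← bcF_map_left_projX, h, bcF_map_left_projX]

/-- Invariant isomorphisms descend. -/
theorem exists_descIso (g : bcK K Y ≅ bcK K X) (hg : ∀ σ : K ≃ₐ[k] K, twHom σ g.hom = g.hom) :
    ∃ e : Y ≅ X, (bcF K).mapIso e = g := by
  obtain ⟨f, hf⟩ := exists_desc g.hom hg
  obtain ⟨f', hf'⟩ := exists_desc g.inv fun σ => by
    show (twIso σ g).inv = g.inv
    rw [show twIso σ g = g from Iso.ext (hg σ)]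
  refine ⟨⟨f, f', bcF_map_injective (K := K) ?_, bcF_map_injective (K := K) ?_⟩, Iso.ext hf⟩
  · rw [Functor.map_comp, hf, hf']; exact g.hom_inv_id.trans ((bcF K).map_id Y).symm
  · rw [Functor.map_comp, hf, hf']; exact g.inv_hom_id.trans ((bcF K).map_id X).symm

end Descent

section Classes

variable [FiniteDimensional k K] [IsGalois k K]

omit [FiniteDimensional k K] [IsGalois k K] in
theorem twIso_symm (σ : K ≃ₐ[k] K) (φ : bcK K Y ≅ bcK K X) :
    twIso σ φ.symm = (twIso σ φ).symm := rfl

omit [FiniteDimensional k K] [IsGalois k K] in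
/-- Composing a trivialisation with an automorphism changes the cocycle by a coboundary. -/
theorem cocycle_trans (φ : bcK K Y ≅ bcK K X) (c : Aut (bcK K X)) (σ : K ≃ₐ[k] K) :
    cocycle φ σ = c⁻¹ * cocycle (φ ≪≫ c) σ * σ • c := by
  show (twIso σ φ).symm ≪≫ φ =
    twIso σ c ≪≫ ((twIso σ (φ ≪≫ c)).symm ≪≫ φ ≪≫ c) ≪≫ c.symm
  rw [twIso_trans]
  ext1
  simp only [Iso.trans_hom, Iso.symm_hom, Iso.trans_inv, Category.assoc, Iso.hom_inv_id_assoc,
    Iso.hom_inv_id, Category.comp_id]

/-- Two twists are isomorphic exactly when a change of trivialisation relates their cocycles. -/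
theorem exists_iso_iff (φ : bcK K Y ≅ bcK K X) (φ' : bcK K Y' ≅ bcK K X) (P : Aut (bcK K X) → Prop) :
    (∃ e : Y ≅ Y', P (φ.symm ≪≫ (bcF K).mapIso e ≪≫ φ')) ↔
      ∃ c, P c ∧ ∀ σ, cocycle φ σ = c⁻¹ * cocycle φ' σ * σ • c := by
  constructor
  · rintro ⟨e, he⟩
    refine ⟨_, he, fun σ => ?_⟩
    rw [cocycle_trans φ (φ.symm ≪≫ (bcF K).mapIso e ≪≫ φ') σ]
    congr 2
    ext1
    simp only [cocycle_apply_hom, Iso.self_symm_id_assoc, twIso_trans, twIso_mapIso,
      Iso.trans_hom, Iso.trans_inv, Category.assoc, Iso.inv_hom_id_assoc]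
  · rintro ⟨c, hc, h⟩
    have h' : ∀ σ, cocycle (φ ≪≫ c) σ = cocycle φ' σ := fun σ =>
      mul_left_cancel (mul_right_cancel ((cocycle_trans φ c σ).symm.trans (h σ)))
    obtain ⟨e, he⟩ := exists_descIso (φ ≪≫ c ≪≫ φ'.symm) fun σ => by
      have hh : (twIso σ (φ ≪≫ c)).inv ≫ (φ ≪≫ c).hom = (twIso σ φ').inv ≫ φ'.hom :=
        congrArg (fun a : Aut (bcK K X) => a.hom) (h' σ)
      let m : bcK K Y ≅ bcK K X := φ ≪≫ c
      show twHom σ (m.hom ≫ φ'.inv) = m.hom ≫ φ'.inv
      replace hh : m.hom = (twIso σ m).hom ≫ (twIso σ φ').inv ≫ φ'.hom := (Iso.inv_comp_eq _).1 hh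
      rw [twHom_comp, Iso.eq_comp_inv, Category.assoc]
      exact hh.symm
    refine ⟨e, ?_⟩
    rw [he]
    convert hc using 1
    ext1
    simp

end Classes

end Groth.Misc10.GalTw
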