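import Groth.Agent.Misc10.GalTw.Basic
import Groth.Agent.Pi1Quot.Existence
import Groth.Agent.Pi1Quot.Free
import Mathlib.AlgebraicGeometry.AlgClosed.Basic

/-!
# Existence of twists
-/

set_option autoImplicit false
set_option backward.isDefEq.respectTransparency false
set_option backward.isDefEq.respectTransparency.types false

universe u

open CategoryTheory CategoryTheory.Limits AlgebraicGeometry
open GalTw

noncomputable section

namespace Groth.Misc10.GalTw

variable {k : Type u} [Field k] {K : Type u} [Field K] [Algebra k K]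
  {X : Over (Spec (CommRingCat.of k))} (a : GpH1.OneCocycle (K ≃ₐ[k] K) (Aut (bcK K X)))

/-- The semilinear automorphism of a cocycle. -/
def rhoIso (σ : K ≃ₐ[k] K) : (bcK K X).left ≅ (bcK K X).left :=
  galIso K σ⁻¹ X ≪≫ (Over.forget _).mapIso (a σ)

theorem rhoIso_hom (σ : K ≃ₐ[k] K) : (rhoIso a σ).hom = galMap K σ⁻¹ X ≫ (a σ).hom.left := rfl

theorem rhoIso_mul_hom (σ τ : K ≃ₐ[k] K) :
    (rhoIso a (σ * τ)).hom = (rhoIso a τ).hom ≫ (rhoIso a σ).hom := by
  have h : (a (σ * τ)).hom.left = galMap K σ X ≫ (a τ).hom.left ≫ galMap K σ⁻¹ X ≫ (a σ).hom.left := by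
    rw [a.2 σ τ]
    show ((twIso σ (a τ)).hom ≫ (a σ).hom).left = _
    simp only [Over.comp_left, twIso_hom, twHom_left, Category.assoc]
  rw [rhoIso_hom, rhoIso_hom, rhoIso_hom, h, galMap_mul_assoc, mul_inv_rev, mul_assoc,
    inv_mul_cancel, mul_one, Category.assoc]

/-- The semilinear action of the Galois group defined by a cocycle. -/
def rho : (K ≃ₐ[k] K) →* Aut (bcK K X).left where
  toFun := rhoIso a
  map_one' := Iso.ext <| by
    rw [rhoIso_hom, inv_one, galMap_one, Category.id_comp, oneCocycle_one a]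
    rfl
  map_mul' σ τ := Iso.ext (rhoIso_mul_hom a σ τ)

@[reassoc]
theorem rho_projK (σ : K ≃ₐ[k] K) :
    (rho a σ).hom ≫ projK K X = projK K X ≫ specMap K σ⁻¹ := by
  show (galMap K σ⁻¹ X ≫ (a σ).hom.left) ≫ projK K X = _
  rw [Category.assoc, show (a σ).hom.left ≫ projK K X = projK K X from Over.w (a σ).hom, galMap_snd]

theorem rho_struct (σ : K ≃ₐ[k] K) :
    (rho a σ).hom ≫ projK K X ≫ base k K = projK K X ≫ base k K := by
  rw [rho_projK_assoc, specMap_comp_pt]

theorem eq_one_of_specMap_fix {Ω : Type u} [Field Ω] (ι : CommRingCat.of K ⟶ CommRingCat.of Ω)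
    (σ : K ≃ₐ[k] K) (h : Spec.map ι ≫ specMap K σ = Spec.map ι) : σ = 1 := by
  have h' : CommRingCat.ofHom (σ : K →+* K) ≫ ι = ι := Spec.map_injective (by rw [Spec.map_comp]; exact h)
  exact AlgEquiv.ext fun x => ι.hom.injective
    (RingHom.congr_fun (congrArg CommRingCat.Hom.hom h') x)

theorem rho_free (Ω : Type u) [Field Ω] [IsAlgClosed Ω]
    (ξ : Spec (CommRingCat.of Ω) ⟶ (bcK K X).left) (σ : K ≃ₐ[k] K) (h : ξ ≫ (rho a σ).hom = ξ) :
    σ = 1 := by
  obtain ⟨ι, hι⟩ := Spec.map_surjective (ξ ≫ projK K X)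
  refine inv_eq_one.1 (eq_one_of_specMap_fix ι _ ?_)
  rw [hι, Category.assoc, ← rho_projK a σ, ← Category.assoc, h]

variable [FiniteDimensional k K] [IsGalois k K]

/-- A geometric point lifts along a finite surjective morphism. -/
theorem exists_geomLift {Z Y : Scheme.{u}} (p : Z ⟶ Y) [IsFinite p] [Surjective p]
    {Ω : Type u} [Field Ω] [IsAlgClosed Ω] (η : Spec (CommRingCat.of Ω) ⟶ Y) :
    ∃ ξ : Spec (CommRingCat.of Ω) ⟶ Z, ξ ≫ p = η := by
  let P := pullback p η
  have : Nonempty P := ⟨((pullback.snd p η).surjective default).choose⟩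
  have : CompactSpace P := QuasiCompact.compactSpace_of_compactSpace (pullback.snd p η)
  obtain ⟨x, -, hx⟩ := IsClosed.exists_closed_singleton isClosed_univ (Set.univ_nonempty (α := P))
  exact ⟨pointOfClosedPoint (pullback.snd p η) x hx ≫ pullback.fst p η, by
    rw [Category.assoc, pullback.condition, pointOfClosedPoint_comp_assoc]⟩

theorem exists_isTwist
    (hAF : ∀ z : (bcK K X).left, ∃ U : (bcK K X).left.Opens, IsAffineOpen U ∧
      ∀ σ, (rho a σ).hom z ∈ U) :
    ∃ Y : Over (Spec (CommRingCat.of k)), IsTwist K X a Y ∧ (IsAffine X.left → IsAffine Y.left) ∧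
      (LocallyOfFiniteType X.hom → LocallyOfFiniteType Y.hom) := by
  obtain ⟨Q, p, hp⟩ := Groth.Pi1Quot.exists_isQuot (ρ := rho a) hAF
  obtain ⟨hfin, het, hflat, hsurj⟩ := Groth.Pi1Quot.finite_etale_of_free hp (rho_free a)
  let s := projK K X ≫ base k K
  let Sk : Scheme.{u} := Spec (CommRingCat.of k)
  have hrange : ∀ r, ∃ t, p.app ⊤ t = s.appTop r := fun r => by
    refine ((hp.range_iff ⊤ (s.appTop r)).2 fun g => ?_)
    have h := Scheme.Hom.comp_appTop (rho a g).hom s
    rw [show (rho a g).hom ≫ s = s from rho_struct a g] at h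
    have e : (rho a g).hom.appLE (p ⁻¹ᵁ ⊤) (p ⁻¹ᵁ ⊤) (SGA1.preimage_le_of_inv _ p hp.inv g ⊤) =
        (rho a g).hom.appTop := Scheme.Hom.appLE_eq_app _
    rw [e]
    exact (RingHom.congr_fun (congrArg CommRingCat.Hom.hom h) r).symm
  choose t ht using hrange
  let φk : Γ(Sk, ⊤) →+* Γ(Q, ⊤) :=
    { toFun := t
      map_one' := hp.injective ⊤ (by rw [ht, map_one, map_one])
      map_mul' := fun x y => hp.injective ⊤ (by rw [ht, map_mul, map_mul, ht, ht])
      map_zero' := hp.injective ⊤ (by rw [ht, map_zero, map_zero])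
      map_add' := fun x y => hp.injective ⊤ (by rw [ht, map_add, map_add, ht, ht]) }
  let q : Q ⟶ Sk := Q.toSpecΓ ≫ Spec.map (CommRingCat.ofHom φk) ≫ Sk.isoSpec.inv
  have hq : p ≫ q = s := by
    have h : CommRingCat.ofHom φk ≫ p.appTop = s.appTop := CommRingCat.hom_ext (RingHom.ext ht)
    simp only [q]
    rw [← Category.assoc, Scheme.toSpecΓ_naturality, Category.assoc, ← Spec.map_comp_assoc, h,
      ← Scheme.toSpecΓ_naturality_assoc, Scheme.toSpecΓ_isoSpec_inv]
    exact Category.comp_id _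
  let Y : Over (Spec (CommRingCat.of k)) := Over.mk q
  let ψ : (bcK K X).left ⟶ (bcK K Y).left := pullback.lift p (projK K X) hq
  have hψ₁ : ψ ≫ projX K Y = p := pullback.lift_fst _ _ _
  have hψ₂ : ψ ≫ projK K Y = projK K X := pullback.lift_snd _ _ _
  have : Etale (base k K) := by
    show Etale (Spec.map (CommRingCat.ofHom (algebraMap k K)))
    rw [HasRingHomProperty.Spec_iff (P := @Etale)]
    change RingHom.Etale (algebraMap k K)
    rw [RingHom.etale_algebraMap]
    haveI : Algebra.FormallyEtale k K := Algebra.FormallyEtale.of_isSeparable k K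
    exact ⟨inferInstance, Algebra.FinitePresentation.of_finiteType.mp inferInstance⟩
  have : IsAffineHom (base k K) := inferInstanceAs (IsAffineHom (Spec.map _))
  have : Etale (projX K Y) := inferInstanceAs (Etale (pullback.fst _ _))
  have : IsSeparated (projX K Y) := inferInstanceAs (IsSeparated (pullback.fst _ _))
  have : IsFinite (ψ ≫ projX K Y) := hψ₁ ▸ hfin
  have : Etale (ψ ≫ projX K Y) := hψ₁ ▸ het
  have : IsFinite ψ := IsFinite.of_comp ψ (projX K Y)
  have : Etale ψ := Etale.of_comp ψ (projX K Y)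
  have : UniversallyInjective ψ := ((tfae_universallyInjective ψ).out 0 1).2 (by
    intro Ω _ ξ₁ ξ₂ h
    replace h : ξ₁ ≫ ψ = ξ₂ ≫ ψ := h
    obtain ⟨g, hg⟩ := Groth.Pi1Quot.exists_point_smul hp (rho_free a) ξ₁ ξ₂
      (by rw [← hψ₁, ← Category.assoc, h, Category.assoc])
    obtain ⟨ι, hι⟩ := Spec.map_surjective (ξ₁ ≫ projK K X)
    have h1 : g = 1 := inv_eq_one.1 (eq_one_of_specMap_fix ι _ (by
      rw [hι, Category.assoc, ← rho_projK a g, ← Category.assoc, hg, ← hψ₂]
      exact (reassoc_of% h) _ |>.symm))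
    rw [← hg, h1, map_one]
    exact (Category.comp_id _).symm)
  have : Surjective ψ := ⟨fun w => by
    obtain ⟨Ω, _, _, ω, hω⟩ := Groth.Pi1FEt.exists_geomPoint w
    obtain ⟨ξ, hξ⟩ := exists_geomLift p (ω ≫ projX K Y)
    obtain ⟨i₁, hi₁⟩ := Spec.map_surjective (ξ ≫ projK K X)
    obtain ⟨i₂, hi₂⟩ := Spec.map_surjective (ω ≫ projK K Y)
    have hk : i₁.hom.comp (algebraMap k K) = i₂.hom.comp (algebraMap k K) := by
      have h : Spec.map i₁ ≫ base k K = Spec.map i₂ ≫ base k K := by
        rw [hi₁, hi₂, Category.assoc, Category.assoc, show projK K X ≫ base k K = p ≫ q from hq.symm,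
          reassoc_of% hξ]
        exact congrArg (ω ≫ ·) pullback.condition
      have h' : Spec.map (CommRingCat.ofHom (algebraMap k K) ≫ i₁) =
          Spec.map (CommRingCat.ofHom (algebraMap k K) ≫ i₂) := by
        rw [Spec.map_comp, Spec.map_comp]; exact h
      exact congrArg CommRingCat.Hom.hom (Spec.map_injective h')
    obtain ⟨σ, hσ⟩ := Groth.Agent.S14400.exists_sigma i₁.hom i₂.hom hk
    have hi : Spec.map i₂ = Spec.map i₁ ≫ specMap K σ := by
      rw [← Spec.map_comp]
      exact congrArg Spec.map (CommRingCat.hom_ext hσ)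
    refine ⟨(ξ ≫ (rho a σ⁻¹).hom) default, ?_⟩
    rw [← hω, ← Scheme.Hom.comp_apply]
    refine congrArg (fun f : Spec (CommRingCat.of Ω) ⟶ _ => f default) (pullback.hom_ext ?_ ?_)
    · rw [Category.assoc, Category.assoc, hψ₁, hp.inv, hξ]
    · rw [Category.assoc, Category.assoc, hψ₂, rho_projK, inv_inv, ← Category.assoc, ← hi₁, ← hi, hi₂]⟩
  have : IsIso ψ := Groth.Pi1Etale.isIso_of_etale_universallyInjective_surjective ψ
  let Φ : bcK K X ≅ bcK K Y := Over.isoMk (asIso ψ) hψ₂
  refine ⟨Y, ⟨Φ.symm, fun σ => ?_⟩, fun hX => ?_, fun hX => ?_⟩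
  · apply Iso.ext
    apply Over.OverMorphism.ext
    show (galMap K σ X ≫ ψ ≫ galMap K σ⁻¹ Y) ≫ inv ψ = (a σ).hom.left
    have hcomm : ψ ≫ galMap K σ⁻¹ Y = (rho a σ).hom ≫ ψ := by
      apply pullback.hom_ext
      · rw [Category.assoc, Category.assoc, galMap_fst, hψ₁, hp.inv]
      · rw [Category.assoc, Category.assoc, galMap_snd, hψ₂, rho_projK, reassoc_of% hψ₂]
    rw [hcomm, Category.assoc, Category.assoc, IsIso.hom_inv_id, Category.comp_id]
    show galMap K σ X ≫ galMap K σ⁻¹ X ≫ (a σ).hom.left = _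
    rw [galMap_mul_assoc, mul_inv_cancel, galMap_one, Category.id_comp]
  · have : IsAffineHom X.hom := inferInstance
    have : IsAffineHom (projK K X) := inferInstanceAs (IsAffineHom (pullback.snd X.hom (base k K)))
    have : IsAffineHom (p ≫ q) := by rw [hq]; infer_instance
    have := Groth.Pi1Quot.isAffineHom_of_comp hp q
    exact isAffine_of_isAffineHom q
  · have : LocallyOfFiniteType (p ≫ q) :=
      hq ▸ inferInstanceAs (LocallyOfFiniteType (projK K X ≫ base k K))
    exact Groth.Pi1Quot.locallyOfFiniteType_quot hp q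

end Groth.Misc10.GalTw
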